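import Cfsg.Agent.Lib.Fusion.AbIndexP.Essential
import Cfsg.Agent.Lib.Fusion.StrongInduction

/-!
Classification of the essential subgroups over a `p`-group with an abelian subgroup of index `p`,
and the consequence of a trivial core when that subgroup is not essential.
-/

set_option autoImplicit false

namespace Cfsg.Agent.Fusion.AbIndexP

open Cfsg Cfsg.FusionSystem Cfsg.Agent.Fusion

variable {Ω : Type*} [Group Ω] {S A P : Subgroup Ω} {p : ℕ} {F : FusionSystem S}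
  [Finite S] [hp : Fact p.Prime]

/-- Every essential subgroup other than `A` has one of two shapes. -/
theorem classify (hS : IsPGroup p S) (hF : F.IsSaturated p) (hp2 : p ≠ 2)
    (hna : ¬ IsMulCommutative ↥S) (hle : A ≤ S) (hab : IsMulCommutative ↥A)
    (hidx : (A.subgroupOf S).index = p) (hP : F.IsEssential p P) (hPA : P ≠ A) :
    ∃ (x : Ω) (h : Base p S A x), x ∈ P ∧ Nat.card ↥(h.K 1 ⊓ h.R 1) = p ∧
      (P.subgroupOf (normalizerIn S P)).index = p ∧
      ((P = Zs S ⊔ Subgroup.zpowers x ∧ ∃ β : MulAut ↥(Zs S), Inverts F β ∧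
          ∀ α ∈ F.autGroup P, ∀ b : P, (∃ hb : (b : Ω) ∈ Zs S, β ⟨b, hb⟩ = ⟨b, hb⟩) →
            ∃ hb : ((α b : P) : Ω) ∈ Zs S, β ⟨_, hb⟩ = ⟨_, hb⟩) ∨
        (P = h.K 2 ⊔ Subgroup.zpowers x ∧
          ∀ α ∈ F.autGroup P, ∀ b : P, (b : Ω) ∈ Zs S → ((α b : P) : Ω) ∈ Zs S)) := by
  have hnot : ¬ P ≤ A := fun he => hPA (eq_of_le hP hle
    (fun a ha b hb => congrArg Subtype.val (hab.is_comm.comm ⟨a, ha⟩ ⟨b, hb⟩)) he)
  obtain ⟨x, hxP, hxA⟩ := SetLike.not_le_iff_exists.1 hnot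
  have h := Base.mk' hS hle hab hidx (hP.2.1.1 hxP) hxA
  refine ⟨x, h, hxP, ?_⟩
  by_cases hZ : P ⊓ A ≤ Zs S
  · obtain ⟨hK, he, hi, hβ⟩ := h.abelian_case hS hF hna hp2 hP hxP hZ
    exact ⟨hK, hi, Or.inl ⟨he, hβ⟩⟩
  · obtain ⟨hK, he, hi, hZi⟩ := h.nonabelian_case hS hF hna hP hxP hZ
    exact ⟨hK, hi, Or.inr ⟨he ▸ h.eq_sup hP.2.1.1 hxP, hZi⟩⟩

theorem isFullyNormalized_Zs : F.IsFullyNormalized (Zs S) := by
  refine ⟨inf_le_left, fun Q _ => ?_⟩
  have hN : normalizerIn S (Zs S) = S := inf_eq_left.2 fun g hg =>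
    Subgroup.centralizer_le_normalizer _ fun w hw => ((mem_Zs.1 hw).2 g hg).symm
  rw [hN]
  exact card_le_of_le le_rfl inf_le_left

/-- Automorphisms of the centre extend to `S`, so keep the derived subgroup. -/
theorem apply_mem_Ds (hS : IsPGroup p S) (hF : F.IsSaturated p) {η : MulAut ↥(Zs S)}
    (hη : η ∈ F.autGroup (Zs S)) {z : Zs S} (hz : (z : Ω) ∈ Ds S) :
    ((η z : Zs S) : Ω) ∈ Ds S := by
  obtain ⟨hφ, hr⟩ := hom_of_mem_autGroup inf_le_left hη
  have hext : S ≤ extender S (Zs S) ((Zs S).subtype.comp η.toMonoidHom) := fun g hg =>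
    mem_extender_iff.2 ⟨hg, Subgroup.centralizer_le_normalizer _
      (fun w hw => ((mem_Zs.1 hw).2 g hg).symm), 1, S.one_mem, fun w hw => by
        rw [one_mul, inv_one, mul_one]
        congr 1
        exact Subtype.ext (by
          show g * (w : Ω) * g⁻¹ = w
          rw [(mem_Zs.1 w.2).2 g hg, mul_inv_cancel_right])⟩
  obtain ⟨ψ, hψ, hψe⟩ := exists_extension
    (isReceptive_of_fullyNormalized hS hF isFullyNormalized_Zs) hφ hr hext
  let e : S →* S := ψ.codRestrict S fun y => apply_mem hψ y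
  obtain ⟨d, hd, hde⟩ := hz
  refine ⟨e d, ?_, ?_⟩
  · have h1 : (commutator S).map e ≤ commutator S := by
      rw [commutator_def, Subgroup.map_commutator]
      exact Subgroup.commutator_mono le_top le_top
    exact h1 ⟨d, hd, rfl⟩
  · show ψ d = _
    exact (congrArg ψ (Subtype.ext hde : d = ⟨(z : Ω), z.2.1⟩)).trans (hψe z z.2 z.2.1)

/-- The automorphism group of the centre has order prime to `p`. -/
theorem not_dvd_card_autGroup_Zs (hS : IsPGroup p S) (hF : F.IsSaturated p) :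
    ¬ p ∣ Nat.card (F.autGroup (Zs S)) := by
  have := finite_autGroup (F := F) (inf_le_left : Zs S ≤ S)
  obtain ⟨-, R, hR⟩ := isFullyAutomized_of_fullyNormalized hS hF (isFullyNormalized_Zs (F := F))
  have hbot : (autInducedBy S (Zs S)).subgroupOf (F.autGroup (Zs S)) = ⊥ := by
    refine (Subgroup.eq_bot_iff_forall _).2 fun t ht => Subtype.ext (MulEquiv.ext fun w => ?_)
    obtain ⟨g, hg, hgw⟩ := mem_autInducedBy_iff.1 ht
    refine Subtype.ext ((hgw w).trans ?_)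
    rw [(mem_Zs.1 w.2).2 g hg, mul_inv_cancel_right]
    rfl
  have h1 := R.not_dvd_index
  rw [hR, hbot, Subgroup.index_bot] at h1
  exact h1

theorem inverts_unique (hS : IsPGroup p S) (hF : F.IsSaturated p) {β β' : MulAut ↥(Zs S)}
    (hb : Inverts F β) (hb' : Inverts F β') : β' = β := by
  have := finite_Zs S rfl
  have := finite_autGroup (F := F) (inf_le_left : Zs S ≤ S)
  set γ := β⁻¹ * β' with hγ
  have hγG : γ ∈ F.autGroup (Zs S) := (F.autGroup _).mul_mem ((F.autGroup _).inv_mem hb.mem) hb'.mem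
  have hcomm : ∀ u v : Zs S, u * v = v * u :=
    fun u v => Subtype.ext (((mem_Zs.1 v.2).2 u u.2.1))
  have hfix : ∀ z : Zs S, (z : Ω) ∈ Ds S → γ z = z := by
    intro z hz
    rw [hγ, MulAut.mul_apply, hb'.inv z hz, ← hb.inv z hz, MulAut.inv_apply_self]
  have hco : (orderOf γ).Coprime (Nat.card ↥(Zs S)) := by
    obtain ⟨k, hk⟩ := IsPGroup.iff_card.1 (hS.to_le (inf_le_left : Zs S ≤ S))
    rw [hk]
    refine (Nat.coprime_comm.1 (hp.out.coprime_iff_not_dvd.2 fun hd => ?_)).pow_right k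
    refine not_dvd_card_autGroup_Zs hS hF (F := F) (hd.trans ?_)
    exact Subgroup.orderOf_mk γ hγG ▸ orderOf_dvd_natCard _
  have h1 : γ = 1 := SmallEss.eq_one_of_coprime
    (f := fun i => match i with | 0 => ⊥ | 1 => (Ds S).subgroupOf (Zs S) | _ => ⊤) (n := 2)
    rfl rfl (pow_orderOf_eq_one γ) hco (fun i hi w hw => by
      interval_cases i
      · exact Subgroup.mem_bot.2 (inv_mul_eq_one.2 (hfix w hw).symm)
      · show ((w⁻¹ * γ w : Zs S) : Ω) ∈ Ds S
        set d := w⁻¹ * β' w with hd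
        set e := w⁻¹ * β w with he
        have h2 : γ w = w * (e * d⁻¹) := by
          apply β.injective
          rw [hγ, MulAut.mul_apply, MulAut.apply_inv_self, map_mul, map_mul, map_inv,
            hb.inv e (hb.triv w), hb.inv d (hb'.triv w), inv_inv,
            show β w = w * e by rw [he, mul_inv_cancel_left],
            show β' w = w * d by rw [hd, mul_inv_cancel_left]]
          simp [mul_assoc]
        rw [h2, inv_mul_cancel_left]
        exact (Ds S).mul_mem (hb.triv w) ((Ds S).inv_mem (hb'.triv w)))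
  rw [hγ, inv_mul_eq_one] at h1
  exact h1.symm

/-- An automorphism of `R ≥ Z(S)` keeping the centre keeps the fixed points of an inverting map. -/
theorem fixed_apply (hS : IsPGroup p S) (hF : F.IsSaturated p) {β : MulAut ↥(Zs S)}
    (hb : Inverts F β) {R : Subgroup Ω} (hR : R ≤ S) (hZR : Zs S ≤ R) {α : MulAut R}
    (hα : α ∈ F.autGroup R) (hZ : ∀ b : R, (b : Ω) ∈ Zs S → ((α b : R) : Ω) ∈ Zs S)
    {w : Zs S} (hw : β w = w) :
    β ⟨_, hZ ⟨(w : Ω), hZR w.2⟩ w.2⟩ = ⟨_, hZ ⟨(w : Ω), hZR w.2⟩ w.2⟩ := by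
  have := finite_Zs S rfl
  have hφ := restrict_mem ((mem_autGroup_iff hR).1 hα) hZR
  have hφr := range_eq_of_le hφ inf_le_left (fun u => hZ (Subgroup.inclusion hZR u) u.2) le_rfl
  set η := toAut hφ hφr with hη
  have hηG : η ∈ F.autGroup (Zs S) := toAut_mem hφ hφr
  have hconj : Inverts F (η * β * η⁻¹) := by
    refine ⟨(F.autGroup _).mul_mem ((F.autGroup _).mul_mem hηG hb.mem) ((F.autGroup _).inv_mem hηG),
      fun z hz => ?_, fun z => ?_⟩
    · rw [MulAut.mul_apply, MulAut.mul_apply,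
        hb.inv _ (apply_mem_Ds hS hF ((F.autGroup _).inv_mem hηG) hz), map_inv, MulAut.apply_inv_self]
    · have h1 := apply_mem_Ds hS hF hηG (hb.triv (η⁻¹ z))
      simpa [MulAut.mul_apply] using h1
  have h2 : β * η = η * β := by
    have := inverts_unique hS hF hb hconj
    conv_lhs => rw [← this]
    group
  have h3 : β (η w) = η w := by
    calc β (η w) = (β * η) w := rfl
      _ = η (β w) := by rw [h2]; rfl
      _ = η w := by rw [hw]
  exact h3

/-- A subgroup of the centre kept by `Aut_F(S)` and all essential automisers is normal. -/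
theorem isNormal_of_essentials (hS : IsPGroup p S) (hF : F.IsSaturated p) {W : Subgroup Ω}
    (hW : W ≤ Zs S)
    (hess : ∀ R : Subgroup Ω, R = S ∨ F.IsEssential p R → ∀ α ∈ F.autGroup R, ∀ b : R,
      (b : Ω) ∈ W → ((α b : R) : Ω) ∈ W) : F.IsNormal W := by
  refine isNormal_of_step hS hF (hW.trans inf_le_left) (fun g hg =>
    Subgroup.centralizer_le_normalizer _ fun w hw => ((mem_Zs.1 (hW hw)).2 g hg).symm)
    fun R hn hc _ hbig => ⟨hW.trans (le_of_centric hc), fun α hα => ?_⟩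
  by_cases hRS : R = S
  · exact hess R (Or.inl hRS) α hα
  have hRlt : R < S := lt_of_le_of_ne hn.1 hRS
  by_cases hgen : F.autGroup R ≤ Subgroup.closure (extendable F R)
  swap
  · exact hess R (Or.inr (isEssential_of_not_generated hS hF hRlt hn hgen)) α hα
  have := finite_of_le (Ω := Ω) hn.1
  have := finite_mulAut (Ω := Ω) hn.1
  have hα' := hgen hα
  rw [← Subgroup.mem_toSubmonoid, Subgroup.closure_toSubmonoid_of_finite] at hα'
  intro b hb
  clear hgen hα
  induction hα' using Submonoid.closure_induction generalizing b with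
  | mem a ha =>
    obtain ⟨Q, hRQ, φ, hφ, he⟩ := ha
    have hlt := card_lt_of_lt (dom_le hφ) hRQ
    rw [← he b]
    exact (hbig Q hlt φ hφ).apply_mem _ hb
  | one => exact hb
  | mul a a' _ _ ha ha' => exact ha _ (ha' b hb)

/-- With trivial core and `A` not essential: an essential `Z(S)⟨x⟩` exists and `|Z(S)| = p`. -/
theorem core_trivial (hS : IsPGroup p S) (hF : F.IsSaturated p) (hp2 : p ≠ 2)
    (hna : ¬ IsMulCommutative ↥S) (hle : A ≤ S) (hab : IsMulCommutative ↥A)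
    (hidx : (A.subgroupOf S).index = p) (hcore : F.core = ⊥) (hAe : ¬ F.IsEssential p A) :
    ∃ (x : Ω) (h : Base p S A x), F.IsEssential p (Zs S ⊔ Subgroup.zpowers x) ∧
      Nat.card ↥(h.K 1 ⊓ h.R 1) = p ∧ Zs S ≤ Ds S ∧ Nat.card ↥(Zs S) = p := by
  have := finite_Zs S rfl
  have hnormal : ∀ W : Subgroup Ω, F.IsNormal W → W = ⊥ := fun W hW =>
    eq_bot_iff.2 (hcore ▸ le_sSup (α := Subgroup Ω) hW)
  have hcenS : ∀ α : MulAut S, ∀ b : S, (b : Ω) ∈ Zs S → ((α b : S) : Ω) ∈ Zs S := by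
    intro α b hb
    refine mem_Zs.2 ⟨(α b).2, fun g hg => ?_⟩
    obtain ⟨c, hc⟩ := α.surjective ⟨g, hg⟩
    have hcb : c * b = b * c := Subtype.ext ((mem_Zs.1 hb).2 c c.2)
    have h1 := congrArg α hcb
    rw [map_mul, map_mul, hc] at h1
    exact congrArg Subtype.val h1
  obtain ⟨x, h, P, hP, hK, he, β, hβ, hβP⟩ : ∃ (x : Ω) (h : Base p S A x) (P : Subgroup Ω),
      F.IsEssential p P ∧ Nat.card ↥(h.K 1 ⊓ h.R 1) = p ∧ P = Zs S ⊔ Subgroup.zpowers x ∧
      ∃ β : MulAut ↥(Zs S), Inverts F β ∧ ∀ α ∈ F.autGroup P, ∀ b : P,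
        (∃ hb : (b : Ω) ∈ Zs S, β ⟨b, hb⟩ = ⟨b, hb⟩) →
          ∃ hb : ((α b : P) : Ω) ∈ Zs S, β ⟨_, hb⟩ = ⟨_, hb⟩ := by
    by_contra hcon
    have hZ : F.IsNormal (Zs S) := by
      refine isNormal_of_essentials hS hF le_rfl fun R hR α hα b hb => ?_
      rcases hR with rfl | hR
      · exact hcenS α b hb
      obtain ⟨x, h, -, hK, -, ⟨he, hβ⟩ | ⟨-, hZi⟩⟩ := classify hS hF hp2 hna hle hab hidx hR
        (fun hRA => hAe (hRA ▸ hR))
      · exact absurd ⟨x, h, R, hR, hK, he, hβ⟩ hcon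
      · exact hZi α hα b hb
    have : Nontrivial S := by
      by_contra hn
      rw [not_nontrivial_iff_subsingleton] at hn
      exact hna ⟨⟨fun a b => Subsingleton.elim _ _⟩⟩
    have hnt : (Subgroup.center S).map S.subtype ≠ ⊥ := by
      rw [Ne, Subgroup.map_eq_bot_iff_of_injective _ S.subtype_injective]
      exact (Subgroup.nontrivial_iff_ne_bot _).1 (IsPGroup.center_nontrivial hS)
    exact hnt (Zs_eq S ▸ hnormal _ hZ)
  -- the fixed points of `β`
  let W : Subgroup Ω := (MonoidHom.eqLocus β.toMonoidHom (MonoidHom.id _)).map (Zs S).subtype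
  have hWmem : ∀ b : Ω, b ∈ W ↔ ∃ hb : b ∈ Zs S, β ⟨b, hb⟩ = ⟨b, hb⟩ := fun b =>
    ⟨fun ⟨w, hw, hwb⟩ => by subst hwb; exact ⟨w.2, hw⟩, fun ⟨hb, hb'⟩ => ⟨⟨b, hb⟩, hb', rfl⟩⟩
  have hWn : F.IsNormal W := by
    refine isNormal_of_essentials hS hF (Subgroup.map_subtype_le _) fun R hR α hα b hb => ?_
    obtain ⟨hbZ, hbf⟩ := (hWmem _).1 hb
    have key : ∀ (hRS : R ≤ S) (hZR : Zs S ≤ R),
        (∀ c : R, (c : Ω) ∈ Zs S → ((α c : R) : Ω) ∈ Zs S) → ((α b : R) : Ω) ∈ W :=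
      fun hRS hZR hZ => (hWmem _).2 ⟨_, fixed_apply hS hF hβ hRS hZR hα hZ (w := ⟨b, hbZ⟩) hbf⟩
    rcases hR with rfl | hR
    · exact key le_rfl inf_le_left (hcenS α)
    obtain ⟨y, h', -, -, -, ⟨-, β', hβ', hβR⟩ | ⟨-, hZi⟩⟩ := classify hS hF hp2 hna hle hab hidx hR
      (fun hRA => hAe (hRA ▸ hR))
    · rw [inverts_unique hS hF hβ hβ'] at hβR
      exact (hWmem _).2 (hβR α hα b ⟨hbZ, hbf⟩)
    · exact key hR.2.1.1 (le_of_centric hR.1) (hZi α hα)
  have hW := hnormal W hWn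
  have hKR : h.K 1 ⊓ h.R 1 = Zs S ⊓ Ds S := by rw [h.K_one hna, h.Ds_eq]
  have hZD : Zs S ≤ Ds S := by
    intro w hw
    set wZ : Zs S := ⟨w, hw⟩
    set d := wZ⁻¹ * β wZ with hd
    have hdD : (d : Ω) ∈ Ds S := hβ.triv wZ
    have hdp : d ^ p = 1 := by
      have hmem : (d : Ω) ∈ h.K 1 ⊓ h.R 1 := hKR ▸ ⟨d.2, hdD⟩
      have : Finite ↥(h.K 1 ⊓ h.R 1) := finite_of_le (S := S) ((hKR.trans_le inf_le_left).trans inf_le_left)
      have h1 : (⟨(d : Ω), hmem⟩ : ↥(h.K 1 ⊓ h.R 1)) ^ Nat.card ↥(h.K 1 ⊓ h.R 1) = 1 :=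
        pow_card_eq_one'
      rw [hK] at h1
      exact Subtype.ext (by simpa using congrArg Subtype.val h1)
    obtain ⟨k, hk⟩ := hp.out.odd_of_ne_two hp2
    set c := wZ * d ^ (k + 1) with hc
    have hfix : β c = c := by
      rw [hc, map_mul, map_pow, hβ.inv d hdD, show β wZ = wZ * d by rw [hd, mul_inv_cancel_left],
        mul_assoc, inv_pow]
      congr 1
      rw [mul_inv_eq_iff_eq_mul, ← pow_add, show k + 1 + (k + 1) = p + 1 by omega, pow_succ, hdp,
        one_mul]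
    have hcW : (c : Ω) ∈ W := (hWmem _).2 ⟨c.2, hfix⟩
    rw [hW, Subgroup.mem_bot] at hcW
    have h1 : w = ((d ^ (k + 1) : Zs S) : Ω)⁻¹ := eq_inv_of_mul_eq_one_left hcW
    rw [h1, Subgroup.coe_pow]
    exact (Ds S).inv_mem ((Ds S).pow_mem hdD _)
  refine ⟨x, h, he ▸ hP, hK, hZD, ?_⟩
  rw [← hK, hKR, inf_eq_left.2 hZD]

end Cfsg.Agent.Fusion.AbIndexP
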